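import Groth.Agent.L25.TwConst.Local
import Groth.Agent.L23.Descent
import Mathlib.AlgebraicGeometry.ValuativeCriterion
import Mathlib.AlgebraicGeometry.Morphisms.Flat
import Mathlib.AlgebraicGeometry.Morphisms.Separated
import Mathlib.AlgebraicGeometry.PullbackCarrier

/-!
# Twisted constant schemes are separated and satisfy the valuative criterion
-/

set_option autoImplicit false
universe u v

open CategoryTheory CategoryTheory.Limits AlgebraicGeometry TopologicalSpace

noncomputable section

namespace Groth.L16.TwSep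

open Groth.L25.TwConst

variable {X Y S T : Scheme.{u}}

theorem isSeparated_of_isSplit {p : Y ⟶ T} {I : Type v} {C : I → Y.Opens} (h : IsSplit p C) : IsSeparated p := by
  refine ⟨IsClosedImmersion.of_isPreimmersion _ ?_⟩
  let a : ↥(pullback p p) → I := fun z => h.label (pullback.fst p p z)
  let b : ↥(pullback p p) → I := fun z => h.label (pullback.snd p p z)
  have hlc : IsLocallyConstant fun z => (a z, b z) :=
    (h.isLocallyConstant_label.comp_continuous (pullback.fst p p).continuous).prodMk
      (h.isLocallyConstant_label.comp_continuous (pullback.snd p p).continuous)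
  have key : Set.range (pullback.diagonal p) = (fun z => (a z, b z)) ⁻¹' Set.range (fun i : I => (i, i)) := by
    refine subset_antisymm ?_ fun z hz => ?_
    · rintro _ ⟨y, rfl⟩
      refine ⟨h.label y, ?_⟩
      simp only [a, b, ← Scheme.Hom.comp_apply, pullback.diagonal_fst, pullback.diagonal_snd]
      rfl
    · obtain ⟨i, hi⟩ := hz
      have ha : a z = i := (congrArg Prod.fst hi).symm
      have hb : b z = i := (congrArg Prod.snd hi).symm
      let W : (pullback p p).Opens := pullback.fst p p ⁻¹ᵁ C i ⊓ pullback.snd p p ⁻¹ᵁ C i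
      have hzW : z ∈ W := ⟨ha ▸ h.mem_label _, hb ▸ h.mem_label _⟩
      haveI := h.iso i
      have h1 : Set.range (W.ι ≫ pullback.fst p p) ⊆ Set.range (C i).ι := by
        rw [Scheme.Opens.range_ι]
        rintro _ ⟨w, rfl⟩
        exact w.2.1
      have h2 : Set.range (W.ι ≫ pullback.snd p p) ⊆ Set.range (C i).ι := by
        rw [Scheme.Opens.range_ι]
        rintro _ ⟨w, rfl⟩
        exact w.2.2
      have heq : IsOpenImmersion.lift (C i).ι _ h1 = IsOpenImmersion.lift (C i).ι _ h2 := by
        rw [← cancel_mono ((C i).ι ≫ p), IsOpenImmersion.lift_fac_assoc, IsOpenImmersion.lift_fac_assoc,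
          Category.assoc, Category.assoc, pullback.condition]
      have hfs : W.ι ≫ pullback.fst p p = W.ι ≫ pullback.snd p p := by
        rw [← IsOpenImmersion.lift_fac (C i).ι _ h1, heq, IsOpenImmersion.lift_fac]
      have hd : (W.ι ≫ pullback.fst p p) ≫ pullback.diagonal p = W.ι := by
        apply pullback.hom_ext
        · simp
        · simp [hfs]
      exact ⟨(W.ι ≫ pullback.fst p p) (⟨z, hzW⟩ : W), by rw [← Scheme.Hom.comp_apply, hd]; rfl⟩
  rw [key]
  exact ⟨(hlc _ᶜ)⟩

/-- A morphism which is flat-locally split lifts specializations. -/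
theorem specializingMap_of_locally_split (f : X ⟶ S)
    (H : ∀ s : S, ∃ (T' Y' : Scheme.{u}) (q : T' ⟶ S) (k : Y' ⟶ X) (p : Y' ⟶ T') (I : Type u) (C : I → Y'.Opens),
      Flat q ∧ s ∈ Set.range q ∧ IsPullback k p f q ∧ IsSplit p C) : SpecializingMap f := by
  intro x s (hxs : f x ⤳ s)
  obtain ⟨T', Y', q, k, p, I, C, _, ⟨t, rfl⟩, sq, h⟩ := H s
  obtain ⟨t', ht', hqt'⟩ := Flat.generalizingMap q hxs
  obtain ⟨w, hwk, hwp⟩ : ∃ w, k w = x ∧ p w = t' := by
    obtain ⟨z, hz1, hz2⟩ := Scheme.Pullback.exists_preimage_pullback x t' hqt'.symm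
    exact ⟨sq.isoPullback.inv z, by rw [← Scheme.Hom.comp_apply, sq.isoPullback_inv_fst, hz1],
      by rw [← Scheme.Hom.comp_apply, sq.isoPullback_inv_snd, hz2]⟩
  refine ⟨k (h.sec (h.label w) t), ?_, ?_⟩
  · rw [← hwk]
    refine Specializes.map ?_ k.continuous
    have h3 : h.sec (h.label w) t' ⤳ h.sec (h.label w) t := ht'.map (h.sec _).continuous
    rwa [← hwp, h.sec_label w] at h3
  · rw [← Scheme.Hom.comp_apply, sq.w, Scheme.Hom.comp_apply, h.p_sec]

theorem existence {X : Over S} (hX : TwC.IsTwConst TwC.Topology.etale X) :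
    ValuativeCriterion.Existence X.hom := by
  refine ValuativeCriterion.Existence.of_specializingMap _ fun X' S' g' g f' hpb => ?_
  refine specializingMap_of_locally_split f' fun s' => ?_
  obtain ⟨T', q, hq, ⟨t, ht⟩, I, ⟨e⟩⟩ := hX (g s')
  obtain ⟨C, hC⟩ := exists_split_of_iso q e
  haveI : Flat q := inferInstance
  obtain ⟨t', ht1, ht2⟩ := Scheme.Pullback.exists_preimage_pullback s' t ht.symm
  have sq : IsPullback (pullback.fst f' (pullback.fst g q)) (pullback.snd f' (pullback.fst g q)) f'
      (pullback.fst g q) := .of_hasPullback _ _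
  have big := sq.paste_horiz hpb.flip
  rw [pullback.condition (f := g) (g := q)] at big
  have h2 : IsPullback (pullback.fst X.hom q) (pullback.snd X.hom q) X.hom q := .of_hasPullback _ _
  let k' := h2.lift (pullback.fst f' (pullback.fst g q) ≫ g')
    (pullback.snd f' (pullback.fst g q) ≫ pullback.snd g q) (by rw [big.w, Category.assoc])
  have sq2 : IsPullback k' (pullback.snd f' (pullback.fst g q)) (pullback.snd X.hom q) (pullback.snd g q) :=
    IsPullback.of_right (by rw [h2.lift_fst]; exact big) (h2.lift_snd _ _ _) h2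
  exact ⟨_, _, pullback.fst g q, _, _, I, _, inferInstance, ⟨t', ht1⟩, sq, hC.baseChange sq2⟩

theorem isSeparated {X : Over S} (hX : TwC.IsTwConst TwC.Topology.etale X) : IsSeparated X.hom := by
  haveI : MorphismProperty.DescendsAlong (@IsSeparated : MorphismProperty Scheme.{u})
      (@Surjective ⊓ @Flat ⊓ @QuasiCompact) := by
    rw [show (@IsSeparated : MorphismProperty Scheme.{u}) = MorphismProperty.diagonal @IsClosedImmersion from by
      ext; exact isSeparated_iff _]
    infer_instance
  refine of_fppf_local (P := @IsSeparated) X.hom fun s => ?_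
  obtain ⟨S', f, hfl, hfp, hs, I, ⟨e⟩⟩ := fppf_of_etale hX s
  obtain ⟨C, hC⟩ := exists_split_of_iso f e
  exact ⟨S', f, hfl, hfp, hs, isSeparated_of_isSplit hC⟩

end Groth.L16.TwSep
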